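import Mathlib

/-!
# A field point from a property passing to limits and to one of two complementary pieces
-/

set_option autoImplicit false

universe u

open CategoryTheory CategoryTheory.Limits AlgebraicGeometry TopologicalSpace

namespace Groth.Agent.LimPointLib

/-- Localization at a prime is the limit of the basic opens containing it. -/
theorem isLimit_basicOpens {R : CommRingCat.{u}} {T : Scheme.{u}} (φ : Spec R ⟶ T) (p : Ideal R) [p.IsPrime] :
    ∃ (I : Type u) (_ : SmallCategory I) (_ : IsCofiltered I) (D : I ⥤ Over T) (W : I → (Spec R).Opens)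
      (c : Cone D) (_ : IsLimit c),
      (∀ (i j : I) (m : i ⟶ j), IsAffineHom (D.map m).left) ∧
      (∀ i, IsAffineOpen (W i) ∧ (⟨p, inferInstance⟩ : PrimeSpectrum R) ∈ W i ∧
        D.obj i = Over.mk ((W i).ι ≫ φ)) ∧
      c.pt = Over.mk (Spec.map (CommRingCat.ofHom (algebraMap R (Localization.AtPrime p))) ≫ φ) := by
  let x : PrimeSpectrum R := ⟨p, inferInstance⟩
  let I := {W : (Spec R).Opens // ∃ f : R, f ∉ p ∧ W = PrimeSpectrum.basicOpen f}
  haveI : Nonempty I := ⟨⟨PrimeSpectrum.basicOpen (1 : R), 1, fun h => (‹p.IsPrime›).ne_top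
    ((Ideal.eq_top_iff_one p).2 h), rfl⟩⟩
  haveI : IsCodirectedOrder I := ⟨fun a b => by
    obtain ⟨f, hf, hfa⟩ := a.2
    obtain ⟨g, hg, hgb⟩ := b.2
    refine ⟨⟨_, f * g, fun h => ((‹p.IsPrime›).mem_or_mem h).elim hf hg, rfl⟩, ?_, ?_⟩
    · show (PrimeSpectrum.basicOpen (f * g) : (Spec R).Opens) ≤ a.1
      rw [hfa]; exact PrimeSpectrum.basicOpen_mul_le_left f g
    · show (PrimeSpectrum.basicOpen (f * g) : (Spec R).Opens) ≤ b.1
      rw [hgb]; exact PrimeSpectrum.basicOpen_mul_le_right f g⟩
  let D : I ⥤ Over T :=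
    { obj := fun W => Over.mk (W.1.ι ≫ φ)
      map := fun {W W'} m => Over.homMk ((Spec R).homOfLE (leOfHom m)) (by simp)
      map_id := fun W => by ext; simp
      map_comp := fun f g => by ext; simp }
  let loc : Spec (CommRingCat.of (Localization.AtPrime p)) ⟶ Spec R :=
    Spec.map (CommRingCat.ofHom (algebraMap R (Localization.AtPrime p)))
  have hrange : ∀ W : I, Set.range loc ⊆ Set.range W.1.ι := by
    intro W
    rw [Scheme.Opens.range_ι]
    obtain ⟨f, hf, hW⟩ := W.2
    rintro _ ⟨y, rfl⟩
    rw [hW]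
    intro hfy
    exact y.isPrime.ne_top (Ideal.eq_top_of_isUnit_mem _ hfy
      (IsLocalization.map_units (Localization.AtPrime p) (⟨f, hf⟩ : p.primeCompl)))
  let leg : ∀ W : I, Spec (CommRingCat.of (Localization.AtPrime p)) ⟶ W.1 := fun W =>
    IsOpenImmersion.lift W.1.ι loc (hrange W)
  let c : Cone D :=
    { pt := Over.mk (loc ≫ φ)
      π :=
        { app := fun W => Over.homMk (leg W) (by
            show leg W ≫ W.1.ι ≫ φ = loc ≫ φ
            rw [← Category.assoc, IsOpenImmersion.lift_fac])
          naturality := fun W W' m => by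
            ext : 1
            show 𝟙 _ ≫ leg W' = leg W ≫ (Spec R).homOfLE (leOfHom m)
            rw [Category.id_comp, ← cancel_mono W'.1.ι, Category.assoc, Scheme.homOfLE_ι,
              IsOpenImmersion.lift_fac, IsOpenImmersion.lift_fac] } }
  have key : ∀ s : Cone D, ∃! w : s.pt.left ⟶ Spec (CommRingCat.of (Localization.AtPrime p)),
      ∀ W : I, w ≫ leg W = (s.π.app W).left := by
    intro s
    let W₀ : I := Classical.arbitrary I
    let g : s.pt.left ⟶ Spec R := (s.π.app W₀).left ≫ W₀.1.ι
    have hg : ∀ W : I, (s.π.app W).left ≫ W.1.ι = g := by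
      intro W
      obtain ⟨W', h1, h2⟩ := exists_le_le W W₀
      have e1 := congrArg (fun t => t.left ≫ W.1.ι) (s.w (homOfLE h1))
      have e2 := congrArg (fun t => t.left ≫ W₀.1.ι) (s.w (homOfLE h2))
      simp only [Over.comp_left, Category.assoc] at e1 e2
      rw [show (D.map (homOfLE h1)).left = (Spec R).homOfLE h1 from rfl, Scheme.homOfLE_ι] at e1
      rw [show (D.map (homOfLE h2)).left = (Spec R).homOfLE h2 from rfl, Scheme.homOfLE_ι] at e2
      exact e1.symm.trans e2
    let ψ : R ⟶ Γ(s.pt.left, ⊤) := (Scheme.ΓSpecIso R).inv ≫ g.appTop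
    have hψ : g = s.pt.left.toSpecΓ ≫ Spec.map ψ := by
      rw [Spec.map_comp, ← Category.assoc, ← Scheme.toSpecΓ_naturality, Category.assoc]
      simp
    have hu : ∀ f : p.primeCompl, IsUnit (ψ.hom (f : R)) := by
      intro f
      let W : I := ⟨_, f.1, f.2, rfl⟩
      let af : R ⟶ CommRingCat.of (Localization.Away f.1) := CommRingCat.ofHom (algebraMap R _)
      haveI : IsOpenImmersion (Spec.map af) := IsOpenImmersion.of_isLocalization f.1
      have hr : Set.range g ⊆ Set.range (Spec.map af) := by
        rintro _ ⟨y, rfl⟩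
        rw [← hg W, Scheme.Hom.comp_apply]
        exact (PrimeSpectrum.localization_away_comap_range (Localization.Away f.1) f.1).ge
          ((s.π.app W).left y).2
      have e : g.appTop = (Spec.map af).appTop ≫ (IsOpenImmersion.lift (Spec.map af) g hr).appTop := by
        rw [← Scheme.Hom.comp_appTop, IsOpenImmersion.lift_fac]
      have e' : ψ = af ≫ (Scheme.ΓSpecIso _).inv ≫ (IsOpenImmersion.lift (Spec.map af) g hr).appTop := by
        simp only [ψ, e, Scheme.ΓSpecIso_inv_naturality_assoc]
      rw [e', CommRingCat.hom_comp, RingHom.comp_apply]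
      exact (IsLocalization.Away.algebraMap_isUnit f.1).map _
    let l : Localization.AtPrime p →+* Γ(s.pt.left, ⊤) := IsLocalization.lift hu
    refine ⟨s.pt.left.toSpecΓ ≫ Spec.map (CommRingCat.ofHom l), fun W => ?_, fun w hw => ?_⟩
    · rw [← cancel_mono W.1.ι, Category.assoc, IsOpenImmersion.lift_fac, hg W, hψ, Category.assoc, ← Spec.map_comp]
      congr 2
      ext r
      exact IsLocalization.lift_eq hu r
    · haveI : Mono loc := by
        haveI : IsPreimmersion loc := IsPreimmersion.of_isLocalization p.primeCompl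
        infer_instance
      rw [← cancel_mono loc]
      have := congrArg (fun t => t ≫ W₀.1.ι) (hw W₀)
      simp only [Category.assoc, leg, IsOpenImmersion.lift_fac] at this
      refine this.trans ?_
      show g = _
      rw [hψ, Category.assoc, ← Spec.map_comp]
      congr 2
      ext r
      exact (IsLocalization.lift_eq hu r).symm
  refine ⟨I, inferInstance, inferInstance, D, fun W => W.1, c,
    { lift := fun s => Over.homMk (key s).exists.choose (by
        obtain ⟨W⟩ := ‹Nonempty I›
        have h := (key s).exists.choose_spec W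
        show (key s).exists.choose ≫ loc ≫ φ = s.pt.hom
        refine Eq.trans ?_ (Over.w (s.π.app W))
        show _ = (s.π.app W).left ≫ W.1.ι ≫ φ
        rw [← h]
        simp only [Category.assoc, leg, IsOpenImmersion.lift_fac_assoc])
      fac := fun s W => by ext; exact (key s).exists.choose_spec W
      uniq := fun s m hm => by
        ext
        exact (key s).unique (fun W => congrArg CommaMorphism.left (hm W)) (key s).exists.choose_spec },
    fun W W' m => ?_, fun W => ⟨?_, ?_, rfl⟩, rfl⟩
  · obtain ⟨f, -, hW⟩ := W.2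
    obtain ⟨f', -, hW'⟩ := W'.2
    have h1 : IsAffineOpen W.1 := hW ▸ IsAffineOpen.Spec_basicOpen f
    have h2 : IsAffineOpen W'.1 := hW' ▸ IsAffineOpen.Spec_basicOpen f'
    haveI : IsAffine (W.1 : Scheme) := h1
    haveI : IsAffine (W'.1 : Scheme) := h2
    show IsAffineHom ((Spec R).homOfLE (leOfHom m))
    infer_instance
  · obtain ⟨f, -, hW⟩ := W.2
    show IsAffineOpen W.1
    rw [hW]
    exact IsAffineOpen.Spec_basicOpen f
  · obtain ⟨f, hf, hW⟩ := W.2
    show x ∈ W.1
    rw [hW]
    exact hf

variable (T : Scheme.{u}) [CompactSpace T] [QuasiSeparatedSpace T] (P : ∀ ⦃T' : Scheme.{u}⦄, (T' ⟶ T) → Prop)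
    (h1 : ∀ ⦃T' T'' : Scheme.{u}⦄ (a : T' ⟶ T) (t : T'' ⟶ T') [IsClosedImmersion t] [Surjective t]
      [CompactSpace T'] [QuasiSeparatedSpace T'] [CompactSpace T''] [QuasiSeparatedSpace T''], P (t ≫ a) ↔ P a)
    (h2 : ∀ ⦃I : Type u⦄ [SmallCategory I] [IsCofiltered I] (D : I ⥤ Over T) (c : Limits.Cone D) (_ : Limits.IsLimit c),
      (∀ (i j : I) (m : i ⟶ j), IsAffineHom (D.map m).left) →
      (∀ i, CompactSpace (D.obj i).left ∧ QuasiSeparatedSpace (D.obj i).left) →
      (∀ i, P (D.obj i).hom) → P c.pt.hom)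
    (h3 : ∀ ⦃T' Z V : Scheme.{u}⦄ (a : T' ⟶ T) [CompactSpace T'] [QuasiSeparatedSpace T'] (i : Z ⟶ T') [IsClosedImmersion i]
      (j : V ⟶ T') [IsOpenImmersion j] [CompactSpace V], Set.range j = (Set.range i)ᶜ → P a → P (j ≫ a) ∨ P (i ≫ a))

theorem qcqs_of_closed {T Z : Scheme.{u}} [CompactSpace T] [QuasiSeparatedSpace T] (i : Z ⟶ T) [IsClosedImmersion i] :
    CompactSpace Z ∧ QuasiSeparatedSpace Z :=
  ⟨QuasiCompact.compactSpace_of_compactSpace i, quasiSeparatedSpace_of_quasiSeparated i⟩

include h1 h2 in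
/-- Minimal closed subschemes with the property. -/
theorem exists_minimal [Nonempty T] (hT : P (𝟙 T)) :
    ∃ I : T.IdealSheafData, (I.support : Set T).Nonempty ∧ P I.subschemeι ∧
      ∀ J : T.IdealSheafData, (J.support : Set T).Nonempty → P J.subschemeι → I ≤ J → J = I := by
  let S := {I : T.IdealSheafData | (I.support : Set T).Nonempty ∧ P I.subschemeι}
  have hbot : (⊥ : T.IdealSheafData) ∈ S := by
    have hs : ((⊥ : T.IdealSheafData).support : Set T) = Set.univ := by simp
    refine ⟨hs ▸ Set.univ_nonempty, ?_⟩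
    obtain ⟨_, _⟩ := qcqs_of_closed (⊥ : T.IdealSheafData).subschemeι
    haveI : Surjective (⊥ : T.IdealSheafData).subschemeι :=
      ⟨Set.range_eq_univ.1 ((Scheme.IdealSheafData.range_subschemeι _).trans hs)⟩
    have := (h1 (𝟙 T) (⊥ : T.IdealSheafData).subschemeι).2 hT
    rwa [Category.comp_id] at this
  have hchain : ∀ c ⊆ S, IsChain (· ≤ ·) c → ∃ ub ∈ S, ∀ z ∈ c, z ≤ ub := by
    intro c hc hch
    rcases c.eq_empty_or_nonempty with rfl | hne
    · exact ⟨⊥, hbot, by simp⟩
    haveI : Nonempty c := hne.to_subtype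
    haveI : IsDirectedOrder c := ⟨fun a b => hch.directed a b⟩
    refine ⟨⨆ J : c, J.1, ⟨?_, ?_⟩, fun z hz => le_iSup (fun J : c => J.1) ⟨z, hz⟩⟩
    · rw [Scheme.IdealSheafData.support_iSup, Closeds.coe_iInf]
      refine IsCompact.nonempty_iInter_of_directed_nonempty_isCompact_isClosed _ ?_ (fun J => (hc J.2).1)
        (fun J => J.1.support.isClosed.isCompact) (fun J => J.1.support.isClosed)
      intro J K
      obtain ⟨L, hJL, hKL⟩ := exists_ge_ge J K
      exact ⟨L, Scheme.IdealSheafData.support_antitone hJL, Scheme.IdealSheafData.support_antitone hKL⟩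
    · let D : (↥c)ᵒᵖ ⥤ Over T :=
        { obj := fun J => Over.mk J.unop.1.subschemeι
          map := fun {J K} m => Over.homMk (Scheme.IdealSheafData.inclusion
            (show K.unop.1 ≤ J.unop.1 from leOfHom m.unop)) (by simp)
          map_id := fun J => by ext; simp
          map_comp := fun f g => by ext; simp }
      let U := ⨆ J : c, J.1
      let C : Cone D :=
        { pt := Over.mk U.subschemeι
          π :=
            { app := fun J => Over.homMk (Scheme.IdealSheafData.inclusion (le_iSup (fun J : c => J.1) J.unop)) (by simp [D])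
              naturality := fun J K m => by ext; simp [D] } }
      have hlim : IsLimit C :=
        { lift := fun s => Over.homMk (IsClosedImmersion.lift U.subschemeι s.pt.hom (by
            rw [Scheme.IdealSheafData.ker_subschemeι]
            refine iSup_le fun J => ?_
            have h := Scheme.Hom.le_ker_comp (s.π.app (Opposite.op J)).left J.1.subschemeι
            rw [Scheme.IdealSheafData.ker_subschemeι] at h
            exact h.trans_eq (congrArg Scheme.Hom.ker (Over.w (s.π.app (Opposite.op J)))))) (by simp [C])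
          fac := fun s J => by
            ext
            have hm : Mono J.unop.1.subschemeι := inferInstance
            rw [← cancel_mono J.unop.1.subschemeι]
            simp only [Over.comp_left, Category.assoc]
            refine Eq.trans ?_ (Over.w (s.π.app J)).symm
            simp [C]
          uniq := fun s m hm => by
            ext
            rw [← cancel_mono U.subschemeι]
            refine (Over.w m).trans ?_
            simp [C] }
      refine h2 D C hlim (fun J K m => ?_) (fun J => qcqs_of_closed J.unop.1.subschemeι) (fun J => (hc J.unop.2).2)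
      haveI : IsClosedImmersion (D.map m).left := by
        have : IsClosedImmersion ((D.map m).left ≫ K.unop.1.subschemeι) := by
          rw [show (D.map m).left ≫ K.unop.1.subschemeι = J.unop.1.subschemeι from Over.w (D.map m)]
          infer_instance
        exact IsClosedImmersion.of_comp _ K.unop.1.subschemeι
      infer_instance
  obtain ⟨I, hI, hmax⟩ := zorn_le₀ S hchain
  exact ⟨I, hI.1, hI.2, fun J hJ hJP hle => le_antisymm (hmax ⟨hJ, hJP⟩ hle) hle⟩

include h1 h2 h3 in
theorem exists_field_point [Nonempty T] (hT : P (𝟙 T)) :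
    ∃ (K : Type u) (_ : Field K) (t : Spec (CommRingCat.of K) ⟶ T), P t := by
  obtain ⟨I, hne, hPI, hmax⟩ := exists_minimal T P h1 h2 hT
  let Z := I.subscheme
  let a : Z ⟶ T := I.subschemeι
  obtain ⟨_, _⟩ := qcqs_of_closed a
  -- every nonempty quasi-compact open of the minimal piece has the property
  have hopen : ∀ V : Z.Opens, IsCompact (V : Set Z) → (V : Set Z).Nonempty → P (V.ι ≫ a) := by
    intro V hV hVne
    haveI : CompactSpace (V : Scheme) := isCompact_iff_compactSpace.1 hV
    let K := Scheme.IdealSheafData.vanishingIdeal (X := Z) ⟨(V : Set Z)ᶜ, V.2.isClosed_compl⟩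
    have hK : Set.range K.subschemeι = (V : Set Z)ᶜ := by
      rw [Scheme.IdealSheafData.range_subschemeι, Scheme.IdealSheafData.coe_support_vanishingIdeal]
      all_goals rfl
    rcases Set.eq_empty_or_nonempty ((V : Set Z)ᶜ) with he | hne'
    · obtain rfl : V = ⊤ := Opens.ext (by simpa using he)
      haveI : IsIso (⊤ : Z.Opens).ι := Z.topIso.isIso_hom
      haveI : QuasiSeparatedSpace ((⊤ : Z.Opens) : Scheme) := quasiSeparatedSpace_of_quasiSeparated (⊤ : Z.Opens).ι
      exact (h1 a (⊤ : Z.Opens).ι).2 hPI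
    rcases h3 a K.subschemeι V.ι (by rw [hK, compl_compl, Scheme.Opens.range_ι]) hPI with h | h
    · exact h
    exfalso
    let j := K.subschemeι ≫ a
    obtain ⟨_, _⟩ := qcqs_of_closed j
    obtain ⟨_, _⟩ := qcqs_of_closed j.ker.subschemeι
    have hle : I ≤ j.ker := I.ker_subschemeι.ge.trans (Scheme.Hom.le_ker_comp _ _)
    have hsupp : (j.ker.support : Set T) = Set.range j := by
      rw [Scheme.Hom.support_ker, j.isClosedEmbedding.isClosed_range.closure_eq]
    have hP : P j.ker.subschemeι := by
      have := (h1 j.ker.subschemeι j.toImage).1 (by rw [show j.toImage ≫ j.ker.subschemeι = j from j.toImage_imageι]; exact h)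
      exact this
    have hnej : (j.ker.support : Set T).Nonempty := by
      obtain ⟨z, hz⟩ := hne'
      obtain ⟨y, -⟩ : ∃ y, K.subschemeι y = z := by rw [← Set.mem_range, hK]; exact hz
      exact hsupp ▸ ⟨j y, y, rfl⟩
    have heq := hmax j.ker hnej hP hle
    obtain ⟨v, hv⟩ := hVne
    obtain ⟨y, hy⟩ : a v ∈ Set.range j := by
      rw [← hsupp, heq, ← Scheme.IdealSheafData.range_subschemeι]
      exact ⟨v, rfl⟩
    have : K.subschemeι y = v := a.isClosedEmbedding.injective hy
    have hmem : v ∈ (V : Set Z)ᶜ := hK ▸ ⟨y, this⟩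
    exact hmem hv
  -- a generic point of an affine chart
  obtain ⟨z⟩ : Nonempty Z := by
    obtain ⟨t, ht⟩ := hne
    rw [← Scheme.IdealSheafData.range_subschemeι] at ht
    obtain ⟨z, -⟩ := ht
    exact ⟨z⟩
  obtain ⟨U, hU, hzU, -⟩ := Opens.isBasis_iff_nbhd.1 Z.isBasis_affineOpens (Opens.mem_top z)
  haveI : Nonempty (PrimeSpectrum Γ(Z, U)) := ⟨hU.isoSpec.hom ⟨z, hzU⟩⟩
  obtain ⟨p₀⟩ := ‹Nonempty (PrimeSpectrum Γ(Z, U))›
  obtain ⟨p, hp, -⟩ := Ideal.exists_minimalPrimes_le (bot_le : (⊥ : Ideal Γ(Z, U)) ≤ p₀.asIdeal)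
  haveI : p.IsPrime := hp.1.1
  obtain ⟨ι, _, _, D, W, c, hc, haff, hW, hpt⟩ := isLimit_basicOpens (hU.fromSpec ≫ a) p
  have hPc : P c.pt.hom := by
    refine h2 D c hc haff (fun i => ?_) (fun i => ?_)
    · rw [(hW i).2.2]
      haveI : IsAffine (W i : Scheme) := (hW i).1
      exact ⟨inferInstanceAs (CompactSpace (W i : Scheme)), inferInstanceAs (QuasiSeparatedSpace (W i : Scheme))⟩
    · rw [(hW i).2.2]
      show P ((W i).ι ≫ hU.fromSpec ≫ a)
      haveI : IsAffine (W i : Scheme) := (hW i).1
      let m := (W i).ι ≫ hU.fromSpec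
      let V := m.opensRange
      haveI hVc : CompactSpace (V : Scheme) := by
        refine isCompact_iff_compactSpace.1 ?_
        exact isCompact_range m.continuous
      haveI : QuasiSeparatedSpace (V : Scheme) := quasiSeparatedSpace_of_quasiSeparated V.ι
      have := (h1 (V.ι ≫ a) m.isoOpensRange.hom).2 (hopen V (isCompact_range m.continuous)
        ⟨m ⟨_, (hW i).2.1⟩, _, rfl⟩)
      rwa [← Category.assoc, Scheme.Hom.isoOpensRange_hom_ι, Category.assoc] at this
  rw [hpt] at hPc
  let A := Localization.AtPrime p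
  let κ := IsLocalRing.ResidueField A
  refine ⟨κ, inferInstance, Spec.map (CommRingCat.ofHom (IsLocalRing.residue A)) ≫
    Spec.map (CommRingCat.ofHom (algebraMap Γ(Z, U) A)) ≫ hU.fromSpec ≫ a, ?_⟩
  haveI : IsClosedImmersion (Spec.map (CommRingCat.ofHom (IsLocalRing.residue A))) :=
    IsClosedImmersion.spec_of_surjective _ IsLocalRing.residue_surjective
  haveI : Surjective (Spec.map (CommRingCat.ofHom (IsLocalRing.residue A))) := ⟨fun x => by
    refine ⟨Classical.arbitrary (PrimeSpectrum κ), ?_⟩
    have huniq : ∀ q : PrimeSpectrum A, q = IsLocalRing.closedPoint A := fun q => by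
      apply (IsLocalization.AtPrime.primeSpectrumOrderIso A p).injective
      apply Subtype.ext
      refine PrimeSpectrum.ext ?_
      have h1 : ∀ r : {q : PrimeSpectrum Γ(Z, U) // q.asIdeal ≤ p}, r.1.asIdeal = p := fun r =>
        le_antisymm r.2 (hp.2 ⟨r.1.isPrime, bot_le⟩ r.2)
      exact (h1 _).trans (h1 _).symm
    exact (huniq _).trans (huniq x).symm⟩
  exact (h1 _ _).2 hPc

end Groth.Agent.LimPointLib
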